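import Cfsg.Agent.Chars.GaloisHom.Basic
import Mathlib.FieldTheory.Galois.Basic
import Mathlib.NumberTheory.Cyclotomic.Gal

/-!
# The field of values of the irreducible characters at an element
-/

set_option autoImplicit false

namespace CfsgLib.FieldOfValues57

open Cfsg CfsgLib.Chars IntermediateField

/-- A ring endomorphism of `ℂ` fixing the generators fixes the field they generate. -/
theorem fix_adjoin {S : Set ℂ} (σ : ℂ →+* ℂ) (h : ∀ x ∈ S, σ x = x) :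
    ∀ x ∈ adjoin ℚ S, σ x = x := by
  intro x hx
  induction hx using adjoin_induction ℚ with
  | mem x hx => exact h x hx
  | algebraMap x => simp
  | add x y _ _ hx hy => rw [map_add, hx, hy]
  | inv x _ hx => rw [map_inv₀, hx]
  | mul x y _ _ hx hy => rw [map_mul, hx, hy]

theorem fix_adjoin_iff {S : Set ℂ} (σ : ℂ →+* ℂ) :
    (∀ x ∈ adjoin ℚ S, σ x = x) ↔ ∀ x ∈ S, σ x = x :=
  ⟨fun h x hx => h x (subset_adjoin ℚ S hx), fix_adjoin σ⟩

/-- Subfields of a cyclotomic field are compared by the automorphisms fixing them. -/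
theorem le_of_fix {m : ℕ} (hm : 0 < m) {ζ : ℂ} (hζ : IsPrimitiveRoot ζ m)
    (E F : IntermediateField ℚ ℂ) (hE : E ≤ ℚ⟮ζ⟯) (hF : F ≤ ℚ⟮ζ⟯)
    (h : ∀ (a : ℕ) (σ : ℂ →+* ℂ), a.Coprime m → (∀ z : ℂ, z ^ m = 1 → σ z = z ^ a) →
      (∀ x ∈ F, σ x = x) → ∀ x ∈ E, σ x = x) : E ≤ F := by
  intro x hx
  haveI : NeZero m := ⟨hm.ne'⟩
  haveI : IsCyclotomicExtension {m} ℚ ℚ⟮ζ⟯ := by
    change IsCyclotomicExtension {m} ℚ (adjoin ℚ {ζ}).toSubalgebra
    rw [adjoin_simple_toSubalgebra_of_isAlgebraic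
      ((hζ.isIntegral hm).tower_top : IsIntegral ℚ ζ).isAlgebraic]
    exact hζ.adjoin_isCyclotomicExtension ℚ
  haveI : IsGalois ℚ ℚ⟮ζ⟯ := IsCyclotomicExtension.isGalois {m} ℚ ℚ⟮ζ⟯
  haveI : FiniteDimensional ℚ ℚ⟮ζ⟯ := IsCyclotomicExtension.finiteDimensional {m} ℚ ℚ⟮ζ⟯
  let F' : IntermediateField ℚ ℚ⟮ζ⟯ := IntermediateField.restrict hF
  suffices hmem : (⟨x, hE hx⟩ : ℚ⟮ζ⟯) ∈ F' from (IntermediateField.mem_restrict hF _).1 hmem
  rw [← IsGalois.fixedField_fixingSubgroup F']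
  intro τ
  have hK : IsPrimitiveRoot (AdjoinSimple.gen ℚ ζ) m :=
    IsPrimitiveRoot.coe_submonoidClass_iff.1 hζ
  obtain ⟨a, -, ha, hτ⟩ := (hK.isPrimitiveRoot_iff).1 (hK.map_of_injective τ.1.injective)
  obtain ⟨σ, hσ⟩ := CfsgLib.GaloisHom.exists_ringHom_pow hm ha
  have key : ∀ (z : ℂ) (hz : z ∈ ℚ⟮ζ⟯), σ z = (τ.1 ⟨z, hz⟩ : ℂ) := by
    intro z hz
    induction hz using adjoin_induction ℚ with
    | mem w hw =>
      obtain rfl : w = ζ := Set.mem_singleton_iff.1 hw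
      rw [hσ w hζ.pow_eq_one]
      exact (congrArg Subtype.val hτ)
    | algebraMap q =>
      have : (⟨algebraMap ℚ ℂ q, IntermediateField.algebraMap_mem _ q⟩ : ℚ⟮ζ⟯) =
        algebraMap ℚ ℚ⟮ζ⟯ q := rfl
      rw [this, AlgEquiv.commutes]
      simp
    | add u v hu hv iu iv =>
      rw [map_add, iu, iv, ← AddMemClass.coe_add, ← map_add]; rfl
    | inv u hu iu =>
      rw [map_inv₀, iu, ← IntermediateField.coe_inv, ← map_inv₀]; rfl
    | mul u v hu hv iu iv =>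
      rw [map_mul, iu, iv, ← MulMemClass.coe_mul, ← map_mul]; rfl
  refine Subtype.ext ?_
  show (τ.1 ⟨x, hE hx⟩ : ℂ) = x
  rw [← key x (hE hx)]
  refine h a σ ha hσ (fun y hy => ?_) x hx
  rw [key y (hF hy)]
  exact congrArg Subtype.val (τ.2 ⟨⟨y, hF hy⟩, (IntermediateField.mem_restrict hF _).2 hy⟩)

variable {G : Type*} [Group G] [Finite G]

/-- An endomorphism acting as a power on roots of unity acts so on character values. -/
theorem map_value {m a : ℕ} {g : G} (hg : orderOf g ∣ m) (σ : ℂ →+* ℂ)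
    (hσ : ∀ z : ℂ, z ^ m = 1 → σ z = z ^ a) {χ : G → ℂ} (hχ : IsCharacter G χ) :
    σ (χ g) = χ (g ^ a) := by
  obtain ⟨s, h1, -, h3⟩ := exists_roots hχ g
  have e := h3 1
  simp only [pow_one, Multiset.map_id'] at e
  rw [e, h3 a, map_multiset_sum]
  exact congrArg Multiset.sum (Multiset.map_congr rfl fun z hz => hσ z (by
    obtain ⟨c, rfl⟩ := hg
    rw [pow_mul, h1 z hz, one_pow]))

/-- The field of values at `g` is fixed exactly when the power is conjugate to `g`. -/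
theorem fix_values_iff {m a : ℕ} {g : G} (hg : orderOf g ∣ m) (σ : ℂ →+* ℂ)
    (hσ : ∀ z : ℂ, z ^ m = 1 → σ z = z ^ a) :
    (∀ x ∈ adjoin ℚ {z : ℂ | ∃ χ : IrrCharacter G, (χ : G → ℂ) g = z}, σ x = x) ↔
      IsConj g (g ^ a) := by
  rw [fix_adjoin_iff, isConj_iff_forall_eq]
  constructor
  · intro h χ
    rw [← map_value hg σ hσ (isCharacter_of_isIrrCharacter χ.2)]
    exact (h _ ⟨χ, rfl⟩).symm
  · rintro h x ⟨χ, rfl⟩
    rw [map_value hg σ hσ (isCharacter_of_isIrrCharacter χ.2)]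
    exact (h χ).symm

/-- The field of values at `g` lies in the cyclotomic field of the order of `g`. -/
theorem values_le {m : ℕ} (hm : 0 < m) {ζ : ℂ} (hζ : IsPrimitiveRoot ζ m) {g : G}
    (hg : orderOf g ∣ m) :
    adjoin ℚ {z : ℂ | ∃ χ : IrrCharacter G, (χ : G → ℂ) g = z} ≤ ℚ⟮ζ⟯ := by
  haveI : NeZero m := ⟨hm.ne'⟩
  rw [adjoin_le_iff]
  rintro _ ⟨χ, rfl⟩
  obtain ⟨s, h1, -, h3⟩ := exists_roots (isCharacter_of_isIrrCharacter χ.2) g
  have e := h3 1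
  simp only [pow_one, Multiset.map_id'] at e
  rw [e]
  refine multiset_sum_mem _ fun z hz => ?_
  obtain ⟨c, hc⟩ := hg
  have hzm : z ^ m = 1 := by rw [hc, pow_mul, h1 z hz, one_pow]
  obtain ⟨i, -, rfl⟩ := hζ.eq_pow_of_pow_eq_one hzm
  exact pow_mem (subset_adjoin ℚ _ (Set.mem_singleton ζ)) i

theorem adjoin_trace_le {ζ t : ℂ} (ht : t = ζ + ζ⁻¹ ∨ t = ζ - ζ⁻¹) :
    ℚ⟮t⟯ ≤ ℚ⟮ζ⟯ := by
  rw [adjoin_simple_le_iff]
  have h : ζ ∈ ℚ⟮ζ⟯ := mem_adjoin_simple_self ℚ ζ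
  rcases ht with rfl | rfl
  · exact add_mem h (inv_mem h)
  · exact sub_mem h (inv_mem h)

/-- The sum or difference of `ζ` and its inverse is fixed exactly by two powers. -/
theorem fix_trace_iff {m a c : ℕ} (hm : 0 < m) {ζ t : ℂ} (hζ : IsPrimitiveRoot ζ m)
    (ht : (t = ζ + ζ⁻¹ ∧ ζ ^ c = ζ⁻¹) ∨ (t = ζ - ζ⁻¹ ∧ ζ ^ c = -ζ⁻¹))
    (σ : ℂ →+* ℂ) (hσ : ∀ z : ℂ, z ^ m = 1 → σ z = z ^ a) :
    (∀ x ∈ ℚ⟮t⟯, σ x = x) ↔ (ζ ^ a = ζ ∨ ζ ^ a = ζ ^ c) := by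
  rw [fix_adjoin_iff]
  have h0 : ζ ≠ 0 := hζ.ne_zero hm.ne'
  have hu : ζ ^ a ≠ 0 := pow_ne_zero _ h0
  simp only [Set.mem_singleton_iff, forall_eq]
  rcases ht with ⟨rfl, hc⟩ | ⟨rfl, hc⟩
  · rw [map_add, map_inv₀, hσ ζ hζ.pow_eq_one, hc]
    constructor
    · intro h
      have h' : (ζ ^ a - ζ) * (ζ ^ a * ζ - 1) = 0 := by
        field_simp at h
        linear_combination h
      rcases mul_eq_zero.1 h' with h' | h'
      · exact Or.inl (sub_eq_zero.1 h')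
      · exact Or.inr (eq_inv_of_mul_eq_one_left (sub_eq_zero.1 h'))
    · rintro (h | h) <;> rw [h]
      rw [inv_inv, add_comm]
  · rw [map_sub, map_inv₀, hσ ζ hζ.pow_eq_one, hc]
    constructor
    · intro h
      have h' : (ζ ^ a - ζ) * (ζ ^ a * ζ + 1) = 0 := by
        field_simp at h
        linear_combination h
      rcases mul_eq_zero.1 h' with h' | h'
      · exact Or.inl (sub_eq_zero.1 h')
      · refine Or.inr ?_
        field_simp
        linear_combination h'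
    · rintro (h | h) <;> rw [h]
      rw [inv_neg, inv_inv, sub_neg_eq_add, neg_add_eq_sub]

end CfsgLib.FieldOfValues57
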